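import Mathlib

/-!
# Multiplication maps of finite algebras factoring through finite free modules

If `B'` is a finite algebra over a noetherian ring `A` and `B'` is flat over `A` at a prime `Q`, then
some multiplication map by an element outside `Q` factors through a finite free `A`-module.
-/

set_option autoImplicit false

universe u

open TensorProduct

namespace GrothLib.QFDual2

/-- The elements whose multiplication map factors through a finite free module. -/
def factorIdeal (A S : Type u) [CommRing A] [CommRing S] [Algebra A S] : Ideal S where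
  carrier := {t | LinearMap.mulLeft A t ∈ LinearMap.range (dualTensorHom A S S)}
  zero_mem' := ⟨0, by
    rw [map_zero]
    exact LinearMap.ext fun x => (zero_mul x).symm⟩
  add_mem' := by
    rintro a b ⟨u, hu⟩ ⟨v, hv⟩
    refine ⟨u + v, ?_⟩
    rw [map_add, hu, hv]
    exact LinearMap.ext fun x => (add_mul a b x).symm
  smul_mem' := by
    rintro c a ⟨u, hu⟩
    refine ⟨(LinearMap.mulLeft A c).lTensor (Module.Dual A S) u, ?_⟩
    have key : ∀ w, dualTensorHom A S S ((LinearMap.mulLeft A c).lTensor (Module.Dual A S) w) =
        LinearMap.mulLeft A c ∘ₗ dualTensorHom A S S w := by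
      intro w
      induction w using TensorProduct.induction_on with
      | zero => simp
      | tmul f s =>
        refine LinearMap.ext fun x => ?_
        rw [LinearMap.lTensor_tmul, LinearMap.comp_apply, dualTensorHom_apply, dualTensorHom_apply, map_smul]
      | add x y hx hy => rw [map_add, map_add, hx, hy, map_add, LinearMap.comp_add]
    rw [key, hu]
    exact LinearMap.ext fun x => (mul_assoc c a x).symm

theorem exists_data_of_mem {A S : Type u} [CommRing A] [CommRing S] [Algebra A S] {t : S}
    (ht : t ∈ factorIdeal A S) :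
    ∃ (n : ℕ) (φ : Fin n → Module.Dual A S) (b : Fin n → S), ∀ x, t * x = ∑ i, φ i x • b i := by
  classical
  obtain ⟨w, hw⟩ := ht
  obtain ⟨T, rfl⟩ := TensorProduct.exists_finset w
  refine ⟨T.card, fun i => (T.equivFin.symm i).1.1, fun i => (T.equivFin.symm i).1.2, fun x => ?_⟩
  have h := LinearMap.congr_fun hw x
  rw [map_sum, LinearMap.sum_apply] at h
  rw [← LinearMap.mulLeft_apply (R := A), ← h, ← Finset.sum_coe_sort, ← T.equivFin.symm.sum_comp]
  exact Finset.sum_congr rfl fun i _ => dualTensorHom_apply _ _ _

theorem exists_smul_section {R M : Type u} [CommRing R] [AddCommGroup M] [Module R M]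
    [Module.FinitePresentation R M] (P : Ideal R) [P.IsPrime]
    {MP : Type u} [AddCommGroup MP] [Module R MP] [Module (Localization.AtPrime P) MP]
    [IsScalarTower R (Localization.AtPrime P) MP] (fM : M →ₗ[R] MP)
    [IsLocalizedModule P.primeCompl fM] [Module.Projective (Localization.AtPrime P) MP] :
    ∃ r ∉ P, LinearMap.lsmul R M r ∈ LinearMap.range (dualTensorHom R M M) := by
  classical
  let Rp := Localization.AtPrime P
  obtain ⟨n, x, hx⟩ := Module.Finite.exists_fin (R := R) (M := M)
  let fN : (Fin n → R) →ₗ[R] (Fin n → Rp) := (Algebra.linearMap R Rp).compLeft (Fin n)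
  haveI : IsLocalizedModule P.primeCompl fN :=
    (isLocalizedModule_iff_isBaseChange P.primeCompl Rp fN).mpr ((IsBaseChange.linearMap R Rp).finitePow (Fin n))
  let πP : (Fin n → Rp) →ₗ[Rp] MP := Fintype.linearCombination Rp (fM ∘ x)
  have hsurj : Function.Surjective πP := by
    intro y
    obtain ⟨⟨m, s⟩, hm⟩ := IsLocalizedModule.surj P.primeCompl fM y
    have hall : ∀ w : M, fM w ∈ LinearMap.range πP := by
      intro w
      have hm' : w ∈ Submodule.span R (Set.range x) := hx ▸ Submodule.mem_top
      clear hm y
      induction hm' using Submodule.span_induction with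
      | mem w hw =>
        obtain ⟨i, rfl⟩ := hw
        exact ⟨Pi.single i 1, by simp [πP, Fintype.linearCombination_apply_single]⟩
      | zero => rw [map_zero]; exact zero_mem _
      | add a b _ _ ha hb => rw [map_add]; exact add_mem ha hb
      | smul r a _ ha => rw [map_smul, ← algebraMap_smul Rp]; exact Submodule.smul_mem _ _ ha
    obtain ⟨z, hz⟩ := hall m
    obtain ⟨u, hu⟩ := IsLocalization.map_units Rp s
    refine ⟨(u⁻¹ : Rpˣ).1 • z, ?_⟩
    dsimp only at hm
    rw [map_smul, hz, ← hm, Submonoid.smul_def, ← algebraMap_smul Rp s.1 y, ← hu, ← mul_smul, Units.inv_mul, one_smul]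
  obtain ⟨σP, hσP⟩ := Module.projective_lifting_property πP LinearMap.id hsurj
  obtain ⟨l, f, hl⟩ := Module.FinitePresentation.exists_lift_of_isLocalizedModule P.primeCompl fN
    ((σP.restrictScalars R).comp fM)
  let π : (Fin n → R) →ₗ[R] M := Fintype.linearCombination R x
  have hπ : ∀ y, fM (π y) = πP (fN y) := by
    intro y
    simp [π, πP, fN, Fintype.linearCombination_apply]
  have h1 : fM.comp (π.comp l) = fM.comp (f.1 • LinearMap.id) := by
    refine LinearMap.ext fun m => ?_
    have h2 : fN (l m) = f.1 • σP (fM m) := LinearMap.congr_fun hl m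
    show fM (π (l m)) = fM (f.1 • m)
    rw [hπ, h2, LinearMap.map_smul_of_tower, map_smul]
    exact congrArg (f.1 • ·) (LinearMap.congr_fun hσP (fM m))
  obtain ⟨g, hg⟩ := Module.Finite.exists_smul_of_comp_eq_of_isLocalizedModule P.primeCompl fM _ _ h1
  refine ⟨(g * f).1, (g * f).2, ∑ i, ((LinearMap.proj i).comp l) ⊗ₜ[R] (g.1 • x i), ?_⟩
  refine LinearMap.ext fun m => ?_
  rw [map_sum, LinearMap.sum_apply, LinearMap.lsmul_apply, Submonoid.coe_mul, mul_smul]
  have h3 : g.1 • π (l m) = g.1 • f.1 • m := LinearMap.congr_fun hg m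
  rw [← h3, Fintype.linearCombination_apply, Finset.smul_sum]
  refine Finset.sum_congr rfl fun i _ => ?_
  rw [dualTensorHom_apply, smul_comm]
  rfl

section Etale

variable {R B' : Type u} [CommRing R] [CommRing B'] {A : Type u} [CommRing A] [Algebra A R] [Algebra A B']

theorem flat_of_isLocalization_atPrime (Q : Ideal B') [Q.IsPrime] [Module.Flat A (Localization.AtPrime Q)]
    (P' : Ideal (R ⊗[A] B')) [P'.IsPrime]
    (hQ : P'.comap Algebra.TensorProduct.includeRight.toRingHom = Q)
    (L : Type u) [CommRing L] [Algebra (R ⊗[A] B') L] [IsLocalization.AtPrime L P'] [Algebra R L]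
    [IsScalarTower R (R ⊗[A] B') L] : Module.Flat R L := by
  let BQ := Localization.AtPrime Q
  let D := R ⊗[A] B'
  let D' := R ⊗[A] BQ
  let ι : D →ₐ[R] D' := Algebra.TensorProduct.map (AlgHom.id R R) (IsScalarTower.toAlgHom A B' BQ)
  letI : Algebra D D' := ι.toAlgebra
  haveI : IsScalarTower R D D' := IsScalarTower.of_algebraMap_eq fun r => (ι.commutes r).symm
  let M : Submonoid D := Q.primeCompl.map (Algebra.TensorProduct.includeRight (R := A) (A := R))
  haveI : IsLocalization M D' := IsLocalization.tensorProduct_tensorProduct_right A R Q.primeCompl BQ (by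
    refine RingHom.ext fun x => ?_
    show ι ((1 : R) ⊗ₜ[A] x) = _
    rfl)
  have hM : M ≤ P'.primeCompl := by
    rintro _ ⟨t, ht, rfl⟩ h
    exact ht (hQ ▸ h)
  have hu : ∀ y : M, IsUnit (algebraMap D L y) := fun y => IsLocalization.map_units L (⟨y.1, hM y.2⟩ : P'.primeCompl)
  letI : Algebra D' L := (IsLocalization.lift hu).toAlgebra
  haveI : IsScalarTower D D' L := IsScalarTower.of_algebraMap_eq fun x => (IsLocalization.lift_eq hu x).symm
  haveI : IsScalarTower R D' L := IsScalarTower.of_algebraMap_eq (R := R) (S := D') (A := L) fun r => by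
    rw [IsScalarTower.algebraMap_apply R D D', ← IsScalarTower.algebraMap_apply D D' L,
      ← IsScalarTower.algebraMap_apply R D L]
  haveI := IsLocalization.isLocalization_of_submonoid_le D' L M P'.primeCompl hM
  haveI : Module.Flat D' L := IsLocalization.flat L (P'.primeCompl.map (algebraMap D D'))
  haveI : Module.Flat R D' := Module.Flat.baseChange A R BQ
  exact Module.Flat.trans R D' L

theorem flat_localized (Q : Ideal B') [Q.IsPrime] [Module.Flat A (Localization.AtPrime Q)]
    (P : Ideal R) [P.IsPrime] (e : R ⊗[A] B')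
    (P' : Ideal (R ⊗[A] B')) [P'.IsPrime]
    (hQ : P'.comap Algebra.TensorProduct.includeRight.toRingHom = Q)
    (H : ∀ P'' : Ideal (R ⊗[A] B'), P''.IsPrime → P''.LiesOver P → e ∉ P'' → P'' = P')
    {C : Type u} [CommRing C] [Algebra (R ⊗[A] B') C] [IsLocalization.Away e C]
    [Algebra R C] [IsScalarTower R (R ⊗[A] B') C]
    {N : Submonoid C} {CP : Type u} [CommRing CP] [Algebra C CP] [IsLocalization N CP]
    [Algebra R CP] [IsScalarTower R C CP]
    {Rp : Type u} [CommRing Rp] [IsLocalRing Rp] [Algebra R Rp] [Algebra Rp CP] [IsScalarTower R Rp CP]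
    [Module.Finite Rp CP] (hmax : (IsLocalRing.maximalIdeal Rp).comap (algebraMap R Rp) = P) :
    Module.Flat R CP := by
  letI : Algebra (R ⊗[A] B') CP := ((algebraMap C CP).comp (algebraMap (R ⊗[A] B') C)).toAlgebra
  haveI : IsScalarTower (R ⊗[A] B') C CP := IsScalarTower.of_algebraMap_eq fun _ => rfl
  haveI : IsScalarTower R (R ⊗[A] B') CP := IsScalarTower.of_algebraMap_eq fun r => by
    rw [IsScalarTower.algebraMap_apply R C CP, IsScalarTower.algebraMap_apply R (R ⊗[A] B') C]; rfl
  haveI : Algebra.IsIntegral Rp CP := Algebra.IsIntegral.of_finite Rp CP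
  refine Module.flat_of_isLocalized_maximal (R := R) (S := CP) (M := CP) (fun m _ => Localization.AtPrime m)
    (fun m _ => Algebra.linearMap CP (Localization.AtPrime m)) fun m hm => ?_
  let mC := m.comap (algebraMap C CP)
  let mD := mC.comap (algebraMap (R ⊗[A] B') C)
  haveI : IsLocalization.AtPrime (Localization.AtPrime m) mC :=
    IsLocalization.isLocalization_isLocalization_atPrime_isLocalization N (Localization.AtPrime m) m
  haveI : IsLocalization.AtPrime (Localization.AtPrime m) mD :=
    IsLocalization.isLocalization_isLocalization_atPrime_isLocalization (Submonoid.powers e) (Localization.AtPrime m) mC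
  have hmP : m.comap (algebraMap R CP) = P := by
    have hmax' : (m.comap (algebraMap Rp CP)).IsMaximal := Ideal.isMaximal_comap_of_isIntegral_of_isMaximal m
    rw [IsScalarTower.algebraMap_eq R Rp CP, ← Ideal.comap_comap, IsLocalRing.eq_maximalIdeal hmax', hmax]
  have hmD : mD = P' := by
    refine H mD inferInstance ⟨?_⟩ ?_
    · show P = (mC.comap (algebraMap (R ⊗[A] B') C)).comap (algebraMap R (R ⊗[A] B'))
      rw [Ideal.comap_comap, ← IsScalarTower.algebraMap_eq, Ideal.comap_comap, ← IsScalarTower.algebraMap_eq]
      exact hmP.symm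
    · intro hem
      exact (Ideal.IsPrime.ne_top (inferInstance : mC.IsPrime)) (Ideal.eq_top_of_isUnit_mem _ hem
        (IsLocalization.Away.algebraMap_isUnit e))
  haveI : IsLocalization.AtPrime (Localization.AtPrime m) P' := by
    have h : mD.primeCompl = P'.primeCompl := Submonoid.ext fun x => by
      show x ∉ mD ↔ x ∉ P'
      rw [hmD]
    show IsLocalization P'.primeCompl (Localization.AtPrime m)
    rw [← h]
    infer_instance
  exact flat_of_isLocalization_atPrime Q P' hQ (Localization.AtPrime m)

set_option backward.isDefEq.respectTransparency false in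
theorem exists_mem_factorIdeal_etale [IsNoetherianRing R] [Module.Finite A B']
    (Q : Ideal B') [Q.IsPrime] [Module.Flat A (Localization.AtPrime Q)]
    (P : Ideal R) [P.IsPrime] (e : R ⊗[A] B') (he : IsIdempotentElem e)
    (P' : Ideal (R ⊗[A] B')) [hP' : P'.IsPrime] [P'.LiesOver P]
    (hQ : P'.comap Algebra.TensorProduct.includeRight.toRingHom = Q) (heP' : e ∉ P')
    (H : ∀ P'' : Ideal (R ⊗[A] B'), P''.IsPrime → P''.LiesOver P → e ∉ P'' → P'' = P') :
    ∃ d ∈ factorIdeal R (R ⊗[A] B'), d ∉ P' := by
  classical
  let D := R ⊗[A] B'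
  let C := D ⧸ Ideal.span {1 - e}
  haveI : IsLocalization.Away e C := IsLocalization.Away.quotient_of_isIdempotentElem he
  haveI : Module.Finite R C :=
    Module.Finite.of_surjective (Ideal.Quotient.mkₐ R (Ideal.span {1 - e})).toLinearMap Ideal.Quotient.mk_surjective
  let Rp := Localization.AtPrime P
  let N := Algebra.algebraMapSubmonoid C P.primeCompl
  let CP := Localization N
  let fC : C →ₗ[R] CP := (IsScalarTower.toAlgHom R C CP).toLinearMap
  haveI : IsLocalizedModule P.primeCompl fC := (isLocalizedModule_iff_isLocalization (R := R) (A := C) (Aₛ := CP) (S := P.primeCompl)).mpr inferInstance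
  haveI : Module.Finite Rp CP := Module.Finite.of_isLocalizedModule P.primeCompl fC
  haveI hflatR : Module.Flat R CP :=
    flat_localized Q P e P' hQ H (N := N) (C := C) (CP := CP) (Rp := Rp) Localization.AtPrime.under_maximalIdeal
  haveI : Module.Flat Rp CP := (Module.flat_iff_of_isLocalization (R := R) Rp P.primeCompl (M := CP)).mpr hflatR
  haveI : Module.Free Rp CP := Module.free_of_flat_of_isLocalRing
  haveI := Module.finitePresentation_of_finite R C
  obtain ⟨r, hr, w, hw⟩ := exists_smul_section P fC
  let mk : D →ₗ[R] C := (Ideal.Quotient.mkₐ R (Ideal.span {1 - e})).toLinearMap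
  let sec : C →ₗ[R] D := ((Ideal.span {1 - e}).restrictScalars R).liftQ (LinearMap.mulLeft R e) (by
    intro x hx
    obtain ⟨y, rfl⟩ := Ideal.mem_span_singleton'.1 hx
    rw [LinearMap.mem_ker, LinearMap.mulLeft_apply, mul_left_comm, mul_sub, mul_one, he.eq, sub_self, mul_zero])
  have hsec : ∀ x, sec (mk x) = e * x := fun x => rfl
  refine ⟨r • e, ?_, fun hmem => ?_⟩
  · refine ⟨TensorProduct.map mk.dualMap sec w, ?_⟩
    have key : ∀ w, dualTensorHom R D D (TensorProduct.map mk.dualMap sec w) =
        sec ∘ₗ dualTensorHom R C C w ∘ₗ mk := by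
      intro w
      induction w using TensorProduct.induction_on with
      | zero => simp
      | tmul f s =>
        refine LinearMap.ext fun x => ?_
        rw [TensorProduct.map_tmul, LinearMap.comp_apply, LinearMap.comp_apply, dualTensorHom_apply,
          dualTensorHom_apply, map_smul]
        rfl
      | add x y hx hy => rw [map_add, map_add, hx, hy, map_add, LinearMap.add_comp, LinearMap.comp_add]
    rw [key, hw]
    refine LinearMap.ext fun x => ?_
    rw [LinearMap.comp_apply, LinearMap.comp_apply, LinearMap.lsmul_apply, map_smul, hsec,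
      LinearMap.mulLeft_apply, smul_mul_assoc]
  · rw [Algebra.smul_def] at hmem
    rcases hP'.mem_or_mem hmem with h | h
    · exact hr (by rw [P'.over_def P]; exact h)
    · exact heP' h

end Etale

/-- The key lemma: at a flat point multiplication factors through a finite free module. -/
theorem not_factorIdeal_le {A B' : Type u} [CommRing A] [CommRing B'] [Algebra A B']
    [IsNoetherianRing A] [Module.Finite A B'] (Q : Ideal B') [Q.IsPrime]
    [Module.Flat A (Localization.AtPrime Q)] : ¬ factorIdeal A B' ≤ Q := by
  classical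
  intro hle
  obtain ⟨R, _, _, _, P, _, _, e, he, P', _, _, hP'Q, heP', -, -, H⟩ :=
    Algebra.exists_etale_isIdempotentElem_forall_liesOver_eq (Q.under A) Q
  haveI : IsNoetherianRing R := Algebra.FiniteType.isNoetherianRing A R
  obtain ⟨d, hd, hdP⟩ := exists_mem_factorIdeal_etale Q P e he P' hP'Q heP' H
  haveI := Module.finitePresentation_of_finite A B'
  let D := R ⊗[A] B'
  let μ : B' →ₗ[A] (B' →ₗ[A] B') := LinearMap.mul A B'
  let τ := dualTensorHom A B' B'
  let q := (LinearMap.range τ).mkQ.comp μ
  let ibc := Module.FinitePresentation.isBaseChange_map A B' B' R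
  let T := ibc.equiv
  have hμ : ∀ x : D, T (μ.lTensor R x) = LinearMap.mulLeft R x := by
    intro x
    induction x using TensorProduct.induction_on with
    | zero => rw [map_zero, map_zero]; exact LinearMap.ext fun y => (zero_mul y).symm
    | tmul r b =>
      rw [LinearMap.lTensor_tmul, IsBaseChange.equiv_tmul]
      refine TensorProduct.AlgebraTensorModule.curry_injective (LinearMap.ext fun r' => LinearMap.ext fun y => ?_)
      show r • (r' ⊗ₜ[A] (b * y)) = (r ⊗ₜ[A] b) * (r' ⊗ₜ[A] y)
      rw [TensorProduct.smul_tmul', Algebra.TensorProduct.tmul_mul_tmul, smul_eq_mul]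
    | add x y hx hy => rw [map_add, map_add, hx, hy]; exact LinearMap.ext fun z => (add_mul x y z).symm
  let S : Submodule R (D →ₗ[R] D) := LinearMap.range (T.toLinearMap.comp (τ.baseChange R))
  have hS : ∀ (ξ : Module.Dual R D) (x : D), ξ.smulRight x ∈ S := by
    let ibd := Module.FinitePresentation.isBaseChange_map A B' A R
    suffices h : ∀ (η : D →ₗ[R] R ⊗[A] A) (x : D),
        ((TensorProduct.AlgebraTensorModule.rid A R R).toLinearMap.comp η).smulRight x ∈ S by
      intro ξ x
      have h1 := h ((TensorProduct.AlgebraTensorModule.rid A R R).symm.toLinearMap.comp ξ) x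
      rwa [← LinearMap.comp_assoc, LinearEquiv.comp_coe, LinearEquiv.symm_trans_self, LinearEquiv.refl_toLinearMap,
        LinearMap.id_comp] at h1
    intro η
    induction η using ibd.inductionOn with
    | zero =>
      intro x
      convert zero_mem S
      exact LinearMap.ext fun y => by simp
    | tmul φ =>
      intro x
      induction x using TensorProduct.induction_on with
      | zero => convert zero_mem S; exact LinearMap.ext fun y => by simp
      | tmul r b =>
        refine ⟨r ⊗ₜ (φ ⊗ₜ b), ?_⟩
        rw [LinearMap.comp_apply, LinearMap.baseChange_tmul, LinearEquiv.coe_coe, IsBaseChange.equiv_tmul]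
        refine TensorProduct.AlgebraTensorModule.curry_injective (LinearMap.ext fun r' => LinearMap.ext fun y => ?_)
        show r • ((τ (φ ⊗ₜ b)).baseChange R (r' ⊗ₜ[A] y)) =
          (TensorProduct.AlgebraTensorModule.rid A R R ((φ.baseChange R) (r' ⊗ₜ[A] y))) • (r ⊗ₜ[A] b)
        rw [LinearMap.baseChange_tmul, LinearMap.baseChange_tmul, TensorProduct.AlgebraTensorModule.rid_tmul,
          dualTensorHom_apply, TensorProduct.tmul_smul, TensorProduct.smul_tmul', TensorProduct.smul_tmul',
          TensorProduct.smul_tmul']
        congr 1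
        simp only [smul_eq_mul, Algebra.smul_def]
        ring
      | add x y hx hy =>
        convert add_mem hx hy using 1
        exact LinearMap.ext fun z => by simp
    | smul r η hη =>
      intro x
      convert S.smul_mem r (hη x) using 1
      exact LinearMap.ext fun z => by simp [mul_smul]
    | add η η' h h' =>
      intro x
      convert add_mem (h x) (h' x) using 1
      exact LinearMap.ext fun z => by simp [add_smul]
  have hdS : T (μ.lTensor R d) ∈ S := by
    rw [hμ]
    obtain ⟨w, hw⟩ := hd
    rw [← hw]
    clear hw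
    induction w using TensorProduct.induction_on with
    | zero => rw [map_zero]; exact zero_mem _
    | tmul ξ x => exact hS ξ x
    | add x y hx hy => rw [map_add]; exact add_mem hx hy
  obtain ⟨v, hv⟩ := hdS
  have h0 : q.lTensor R d = 0 := by
    have h2 : μ.lTensor R d = τ.lTensor R v := (T.injective hv).symm
    rw [LinearMap.lTensor_comp, LinearMap.comp_apply, h2, ← LinearMap.comp_apply, ← LinearMap.lTensor_comp,
      show (LinearMap.range τ).mkQ.comp τ = 0 from LinearMap.range_mkQ_comp τ, LinearMap.lTensor_zero,
      LinearMap.zero_apply]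
  obtain ⟨w, hw⟩ := (Module.Flat.lTensor_exact R q.exact_subtype_ker_map d).mp h0
  apply hdP
  rw [← hw]
  clear hw
  induction w using TensorProduct.induction_on with
  | zero => rw [map_zero]; exact zero_mem _
  | tmul r j =>
    have hj : (j : B') ∈ factorIdeal A B' := (Submodule.Quotient.mk_eq_zero (LinearMap.range τ)).1 j.2
    rw [LinearMap.lTensor_tmul, show r ⊗ₜ[A] (LinearMap.ker q).subtype j = (r ⊗ₜ[A] (1 : B')) *
      ((1 : R) ⊗ₜ[A] (j : B')) by simp]
    exact Ideal.mul_mem_left _ _ (show (j : B') ∈ P'.comap Algebra.TensorProduct.includeRight.toRingHom by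
      rw [hP'Q]; exact hle hj)
  | add x y hx hy => rw [map_add]; exact add_mem hx hy

end GrothLib.QFDual2
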