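import Mathlib
import Groth.Prelude.Def_QFDual
import Groth.Agent.Lib.QFDual2.Factor

/-!
# The dualizing module of a flat quasi-finite algebra
-/

set_option autoImplicit false

universe u

open TensorProduct

namespace GrothLib.QFDual2

/-- Points of a ring over `B'` at which `B'` is flat over `A`. -/
def HasFactors (A B' B₁ : Type u) [CommRing A] [CommRing B'] [CommRing B₁] [Algebra A B'] [Algebra B' B₁] : Prop :=
  ∀ q : Ideal B₁, q.IsMaximal → ∃ t ∈ factorIdeal A B', algebraMap B' B₁ t ∉ q

theorem eq_zero_of_hasFactors {A B' B₁ : Type u} [CommRing A] [CommRing B'] [CommRing B₁] [Algebra A B']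
    [Algebra B' B₁] (hq : HasFactors A B' B₁) {M : Type u} [AddCommGroup M] [Module B₁ M] (x : M)
    (h : ∀ t ∈ factorIdeal A B', (algebraMap B' B₁ t * algebraMap B' B₁ t) • x = 0) : x = 0 := by
  by_contra hx
  let I : Ideal B₁ := LinearMap.ker (LinearMap.toSpanSingleton B₁ M x)
  have hI : I ≠ ⊤ := fun hI => hx (by
    have h1 : (1 : B₁) ∈ I := hI ▸ Submodule.mem_top
    simpa [I] using h1)
  obtain ⟨q, hqm, hle⟩ := Ideal.exists_le_maximal I hI
  obtain ⟨t, ht, htq⟩ := hq q hqm
  have h2 : algebraMap B' B₁ t * algebraMap B' B₁ t ∈ q := hle (by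
    show LinearMap.toSpanSingleton B₁ M x _ = 0
    exact h t ht)
  exact htq ((hqm.isPrime.mem_or_mem h2).elim id id)

section OpenImmersion

open AlgebraicGeometry CategoryTheory in
set_option backward.isDefEq.respectTransparency false in
set_option backward.isDefEq.respectTransparency.types false in
theorem localRingHom_bijective {B' B : Type u} [CommRing B'] [CommRing B] [Algebra B' B]
    (hopen : IsOpenImmersion (Spec.map (CommRingCat.ofHom (algebraMap B' B)))) (q : PrimeSpectrum B) :
    Function.Bijective (Localization.localRingHom (q.asIdeal.comap (algebraMap B' B)) q.asIdeal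
      (algebraMap B' B) rfl) := by
  haveI := hopen
  have h1 : IsIso ((Spec.map (CommRingCat.ofHom (algebraMap B' B))).stalkMap q) := inferInstance
  have h2 := ((MorphismProperty.isomorphisms CommRingCat).arrow_mk_iso_iff
    (Scheme.arrowStalkMapSpecIso (CommRingCat.ofHom (algebraMap B' B)) q)).mp h1
  exact (ConcreteCategory.isIso_iff_bijective _).mp h2

variable {A B' B : Type u} [CommRing A] [CommRing B'] [CommRing B] [Algebra B' B]

theorem exists_localization_equiv
    (hopen : AlgebraicGeometry.IsOpenImmersion (AlgebraicGeometry.Spec.map (CommRingCat.ofHom (algebraMap B' B))))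
    (q : Ideal B) [q.IsPrime] :
    Nonempty (Localization.AtPrime (q.comap (algebraMap B' B)) ≃ₐ[B'] Localization.AtPrime q) := by
  have hb := localRingHom_bijective hopen ⟨q, inferInstance⟩
  exact ⟨AlgEquiv.ofRingEquiv (f := RingEquiv.ofBijective _ hb) fun x => by
    show Localization.localRingHom (q.comap (algebraMap B' B)) q (algebraMap B' B) rfl (algebraMap B' _ x) = _
    rw [Localization.localRingHom_to_map, ← IsScalarTower.algebraMap_apply]⟩

theorem flat_of_openImmersion
    (hopen : AlgebraicGeometry.IsOpenImmersion (AlgebraicGeometry.Spec.map (CommRingCat.ofHom (algebraMap B' B)))) :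
    Module.Flat B' B := by
  refine Module.flat_of_isLocalized_maximal (R := B') (S := B) (M := B) (fun m _ => Localization.AtPrime m)
    (fun m _ => Algebra.linearMap B (Localization.AtPrime m)) fun m hm => ?_
  obtain ⟨e⟩ := exists_localization_equiv hopen m
  haveI : Module.Flat B' (Localization.AtPrime (m.comap (algebraMap B' B))) :=
    IsLocalization.flat _ (m.comap (algebraMap B' B)).primeCompl
  exact Module.Flat.of_linearEquiv e.symm.toLinearEquiv

variable [Algebra A B'] [Algebra A B] [IsScalarTower A B' B]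

theorem exists_mem_factorIdeal [IsNoetherianRing A] [Module.Finite A B'] [Module.Flat A B]
    (hopen : AlgebraicGeometry.IsOpenImmersion (AlgebraicGeometry.Spec.map (CommRingCat.ofHom (algebraMap B' B))))
    (q : Ideal B) [q.IsPrime] : ∃ t ∈ factorIdeal A B', algebraMap B' B t ∉ q := by
  obtain ⟨e⟩ := exists_localization_equiv hopen q
  haveI : Module.Flat A (Localization.AtPrime (q.comap (algebraMap B' B))) :=
    Module.Flat.of_linearEquiv (e.restrictScalars A).toLinearEquiv
  exact SetLike.not_le_iff_exists.1 (not_factorIdeal_le (q.comap (algebraMap B' B)))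

theorem hasFactors [IsNoetherianRing A] [Module.Finite A B'] [Module.Flat A B]
    (hopen : AlgebraicGeometry.IsOpenImmersion (AlgebraicGeometry.Spec.map (CommRingCat.ofHom (algebraMap B' B))))
    (B₁ : Type u) [CommRing B₁] [Algebra B B₁] [Algebra B' B₁] [IsScalarTower B' B B₁] :
    HasFactors A B' B₁ := by
  intro q hq
  obtain ⟨t, ht, htq⟩ := exists_mem_factorIdeal (A := A) hopen (q.comap (algebraMap B B₁))
  exact ⟨t, ht, by rwa [IsScalarTower.algebraMap_apply B' B B₁]⟩

end OpenImmersion

theorem finite_omega (A B' : Type u) [CommRing A] [CommRing B'] [IsNoetherianRing A] [Algebra A B']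
    [Module.Finite A B'] : Module.Finite B' (Disc.Omega A B') := by
  classical
  letI : Module A (Disc.Omega A B') := Module.compHom _ (algebraMap A B')
  haveI : IsScalarTower A B' (Disc.Omega A B') := ⟨fun a b n => by
    show (a • b) • n = algebraMap A B' a • b • n
    rw [Algebra.smul_def, mul_smul]⟩
  obtain ⟨k, x, hx⟩ := Module.Finite.exists_fin (R := A) (M := B')
  let u : Disc.Omega A B' →ₗ[A] (Fin k → A) :=
    { toFun := fun n i => n.toLinearMap (x i)
      map_add' := fun n n' => rfl
      map_smul' := fun a n => funext fun i => by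
        show n.toLinearMap (algebraMap A B' a * x i) = a • n.toLinearMap (x i)
        rw [← Algebra.smul_def, map_smul] }
  have hu : Function.Injective u := fun n n' h =>
    Disc.Omega.ext (LinearMap.ext_on_range hx fun i => congrFun h i)
  haveI : Module.Finite A (Disc.Omega A B') := Module.Finite.of_injective u hu
  exact Module.Finite.of_restrictScalars_finite A B' _

theorem smul_omega_eq {A B' : Type u} [CommRing A] [CommRing B'] [Algebra A B'] {t : B'} {k : ℕ}
    {φ : Fin k → Module.Dual A B'} {b : Fin k → B'} (hdata : ∀ x, t * x = ∑ i, φ i x • b i)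
    (n : Disc.Omega A B') :
    t • n = ∑ i, algebraMap A B' (n.toLinearMap (b i)) • (⟨φ i⟩ : Disc.Omega A B') := by
  apply Disc.Omega.toLinearMap_injective
  refine LinearMap.ext fun x => ?_
  have hs : (∑ i, algebraMap A B' (n.toLinearMap (b i)) • (⟨φ i⟩ : Disc.Omega A B')).toLinearMap x =
      ∑ i, (algebraMap A B' (n.toLinearMap (b i)) • (⟨φ i⟩ : Disc.Omega A B')).toLinearMap x :=
    map_sum (AddMonoidHom.mk' (fun ψ : Disc.Omega A B' => ψ.toLinearMap x) fun _ _ => rfl) _ _
  rw [hs, Disc.Omega.smul_toLinearMap_apply, hdata, map_sum]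
  refine Finset.sum_congr rfl fun i _ => ?_
  rw [Disc.Omega.smul_toLinearMap_apply, map_smul, ← Algebra.smul_def, map_smul, smul_eq_mul, smul_eq_mul]
  show φ i x * n.toLinearMap (b i) = n.toLinearMap (b i) * φ i x
  exact mul_comm _ _

section BaseChange

variable {A B' A₁ B'₁ B₁ : Type u} [CommRing A] [CommRing B'] [CommRing A₁] [CommRing B'₁] [CommRing B₁]
  [Algebra A B'] [Algebra A A₁] [Algebra B' B'₁] [Algebra A₁ B'₁] [Algebra A B'₁]
  [IsScalarTower A A₁ B'₁] [IsScalarTower A B' B'₁] (h : Algebra.IsPushout A A₁ B' B'₁)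
  [Algebra B'₁ B₁] [Algebra B' B₁] [IsScalarTower B' B'₁ B₁]

include h

theorem exists_omegaBC_inverse {t : B'} (ht : t ∈ factorIdeal A B') :
    ∃ G : QFDual.omega A₁ B'₁ B₁ →+ QFDual.omega A B' B₁,
      (∀ x, G (QFDual.omegaBC (B₁ := B₁) h x) = (algebraMap B' B₁ t * algebraMap B' B₁ t) • x) ∧
      ∀ y, QFDual.omegaBC (B₁ := B₁) h (G y) = (algebraMap B' B₁ t * algebraMap B' B₁ t) • y := by
  classical
  obtain ⟨k, φ, b, hdata⟩ := exists_data_of_mem ht
  letI : Algebra A₁ B₁ := ((algebraMap B'₁ B₁).comp (algebraMap A₁ B'₁)).toAlgebra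
  haveI : IsScalarTower A₁ B'₁ B₁ := IsScalarTower.of_algebraMap_eq fun _ => rfl
  let t' := algebraMap B' B'₁ t
  let τ := algebraMap B' B₁ t
  have hτ : algebraMap B'₁ B₁ t' = τ := (IsScalarTower.algebraMap_apply B' B'₁ B₁ t).symm
  let bc : Disc.Omega A B' → Disc.Omega A₁ B'₁ := QFDual.bcFin h
  let g : Disc.Omega A₁ B'₁ →+ QFDual.omega A B' B₁ := AddMonoidHom.mk'
    (fun ψ => ∑ i, algebraMap A₁ B₁ (ψ.toLinearMap (algebraMap B' B'₁ (b i))) • ((1 : B₁) ⊗ₜ[B'] (⟨φ i⟩ : Disc.Omega A B')))
    fun ψ ψ' => by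
      rw [← Finset.sum_add_distrib]
      exact Finset.sum_congr rfl fun i _ => by rw [Disc.Omega.add_toLinearMap, LinearMap.add_apply, map_add, add_smul]
  have hg : ∀ ψ, g ψ = ∑ i, algebraMap A₁ B₁ (ψ.toLinearMap (algebraMap B' B'₁ (b i))) •
      ((1 : B₁) ⊗ₜ[B'] (⟨φ i⟩ : Disc.Omega A B')) := fun _ => rfl
  have hlin : ∀ (a : A₁) (ψ : Disc.Omega A₁ B'₁), g (algebraMap A₁ B'₁ a • ψ) = algebraMap A₁ B₁ a • g ψ := by
    intro a ψ
    rw [hg, hg, Finset.smul_sum]
    refine Finset.sum_congr rfl fun i _ => ?_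
    rw [Disc.Omega.smul_toLinearMap_apply, ← Algebra.smul_def, map_smul, smul_eq_mul, map_mul, mul_smul]
  have hgbc : ∀ n : Disc.Omega A B', g (bc n) = τ • ((1 : B₁) ⊗ₜ[B'] n) := by
    intro n
    rw [show τ • ((1 : B₁) ⊗ₜ[B'] n) = (1 : B₁) ⊗ₜ[B'] (t • n) by
      rw [TensorProduct.tmul_smul, algebraMap_smul], smul_omega_eq hdata n, TensorProduct.tmul_sum, hg]
    refine Finset.sum_congr rfl fun i _ => ?_
    rw [QFDual.bcFin_apply_algebraMap, TensorProduct.tmul_smul, ← algebraMap_smul B₁ (algebraMap A B' _)]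
    congr 1
    rw [IsScalarTower.algebraMap_apply A₁ B'₁ B₁, ← IsScalarTower.algebraMap_apply A A₁ B'₁,
      IsScalarTower.algebraMap_apply A B' B'₁, ← IsScalarTower.algebraMap_apply B' B'₁ B₁]
  have hexp : ∀ ψ : Disc.Omega A₁ B'₁,
      t' • ψ = ∑ i, algebraMap A₁ B'₁ (ψ.toLinearMap (algebraMap B' B'₁ (b i))) • bc ⟨φ i⟩ := by
    intro ψ
    apply Disc.Omega.toLinearMap_injective
    refine h.out.algHom_ext _ _ fun x => ?_
    show ψ.toLinearMap (t' * algebraMap B' B'₁ x) =
      (∑ i, algebraMap A₁ B'₁ (ψ.toLinearMap (algebraMap B' B'₁ (b i))) • bc ⟨φ i⟩).toLinearMap (algebraMap B' B'₁ x)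
    have hs : (∑ i, algebraMap A₁ B'₁ (ψ.toLinearMap (algebraMap B' B'₁ (b i))) • bc ⟨φ i⟩).toLinearMap (algebraMap B' B'₁ x) =
        ∑ i, (algebraMap A₁ B'₁ (ψ.toLinearMap (algebraMap B' B'₁ (b i))) • bc ⟨φ i⟩).toLinearMap (algebraMap B' B'₁ x) :=
      map_sum (AddMonoidHom.mk' (fun ξ : Disc.Omega A₁ B'₁ => ξ.toLinearMap (algebraMap B' B'₁ x)) fun _ _ => rfl) _ _
    rw [hs, ← map_mul, hdata, map_sum, map_sum]
    refine Finset.sum_congr rfl fun i _ => ?_
    have hr : (algebraMap A₁ B'₁ (ψ.toLinearMap (algebraMap B' B'₁ (b i))) • bc ⟨φ i⟩).toLinearMap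
        (algebraMap B' B'₁ x) = ψ.toLinearMap (algebraMap B' B'₁ (b i)) * algebraMap A A₁ (φ i x) := by
      rw [Disc.Omega.smul_toLinearMap_apply, ← Algebra.smul_def, LinearMap.map_smul, smul_eq_mul]
      exact congrArg _ (QFDual.bcFin_apply_algebraMap h ⟨φ i⟩ x)
    rw [hr, Algebra.smul_def (φ i x) (b i), map_mul (algebraMap B' B'₁), ← IsScalarTower.algebraMap_apply A B' B'₁,
      IsScalarTower.algebraMap_apply A A₁ B'₁, ← Algebra.smul_def, LinearMap.map_smul, smul_eq_mul]
    exact mul_comm _ _
  have hgt : ∀ ψ, g (t' • ψ) = τ • g ψ := by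
    intro ψ
    rw [hexp, map_sum]
    rw [hg, Finset.smul_sum]
    refine Finset.sum_congr rfl fun i _ => ?_
    rw [hlin, hgbc, smul_comm]
  have hbx : ∀ (x : B'₁) (n : Disc.Omega A B'), g (x • bc n) = algebraMap B'₁ B₁ x • τ • ((1 : B₁) ⊗ₜ[B'] n) := by
    intro x n
    induction x using h.out.inductionOn with
    | zero => rw [zero_smul, map_zero, map_zero, zero_smul]
    | tmul c =>
      show g (algebraMap B' B'₁ c • bc n) = _
      rw [show algebraMap B' B'₁ c • bc n = bc (c • n) from (LinearMap.map_smulₛₗ (QFDual.bcFin h) c n).symm,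
        hgbc, TensorProduct.tmul_smul, smul_comm τ c]
      show c • _ = algebraMap B'₁ B₁ (algebraMap B' B'₁ c) • _
      rw [← IsScalarTower.algebraMap_apply B' B'₁ B₁]
      exact (algebraMap_smul B₁ c _).symm
    | smul a x hx =>
      rw [Algebra.smul_def, mul_smul, hlin, hx, ← mul_smul _ (algebraMap B'₁ B₁ x), map_mul,
        ← IsScalarTower.algebraMap_apply A₁ B'₁ B₁]
    | add x y hx hy => rw [add_smul, map_add, hx, hy, map_add, add_smul]
  have hsemi : ∀ (x : B'₁) (ψ : Disc.Omega A₁ B'₁), τ • g (x • ψ) = algebraMap B'₁ B₁ x • τ • g ψ := by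
    intro x ψ
    rw [← hgt, smul_comm t' x, ← hgt ψ, hexp, Finset.smul_sum, map_sum, map_sum, Finset.smul_sum]
    refine Finset.sum_congr rfl fun i _ => ?_
    rw [smul_comm x, hlin, hlin, hgbc, hbx, smul_comm]
  let G : QFDual.omega A₁ B'₁ B₁ →+ QFDual.omega A B' B₁ :=
    TensorProduct.liftAddHom
      (AddMonoidHom.mk' (fun c : B₁ => AddMonoidHom.mk' (fun ψ => c • τ • g ψ)
        fun ψ ψ' => by rw [map_add, smul_add, smul_add])
        fun c c' => AddMonoidHom.ext fun ψ => add_smul c c' _)
      fun r c ψ => by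
        show (r • c) • τ • g ψ = c • τ • g (r • ψ)
        rw [hsemi, ← mul_smul c, Algebra.smul_def, mul_comm]
  refine ⟨G, fun x => ?_, fun y => ?_⟩
  · induction x using TensorProduct.induction_on with
    | zero => rw [map_zero, map_zero, smul_zero]
    | tmul c n =>
      show c • τ • g (bc n) = _
      rw [hgbc, ← mul_smul τ τ, smul_comm, TensorProduct.smul_tmul' c, smul_eq_mul, mul_one]
    | add x y hx hy => rw [map_add, map_add, hx, hy, smul_add]
  · induction y using TensorProduct.induction_on with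
    | zero => rw [map_zero, map_zero, smul_zero]
    | tmul c ψ =>
      show QFDual.omegaBC h (c • τ • g ψ) = _
      have hBC : QFDual.omegaBC (B₁ := B₁) h (g ψ) = τ • ((1 : B₁) ⊗ₜ[B'₁] ψ) := by
        rw [hg, map_sum, ← hτ, algebraMap_smul, ← TensorProduct.tmul_smul, hexp, TensorProduct.tmul_sum]
        refine Finset.sum_congr rfl fun i _ => ?_
        rw [map_smul, QFDual.omegaBC_tmul, TensorProduct.tmul_smul, IsScalarTower.algebraMap_apply A₁ B'₁ B₁,
          algebraMap_smul]
      rw [map_smul, map_smul, hBC, ← mul_smul τ τ, smul_comm, TensorProduct.smul_tmul' c, smul_eq_mul, mul_one]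
    | add x y hx hy => rw [map_add, map_add, hx, hy, smul_add]

theorem omegaBC_bijective (hq : HasFactors A B' B₁) :
    Function.Bijective (QFDual.omegaBC (B₁ := B₁) h) := by
  refine ⟨(injective_iff_map_eq_zero _).2 fun x hx => eq_zero_of_hasFactors hq x fun t ht => ?_, fun y => ?_⟩
  · obtain ⟨G, hG, -⟩ := exists_omegaBC_inverse (B₁ := B₁) h ht
    rw [← hG, hx, map_zero]
  · let N := LinearMap.range (QFDual.omegaBC (B₁ := B₁) h)
    have h0 : (Submodule.Quotient.mk y : _ ⧸ N) = 0 := eq_zero_of_hasFactors hq _ fun t ht => by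
      obtain ⟨G, -, hG⟩ := exists_omegaBC_inverse (B₁ := B₁) h ht
      rw [← Submodule.Quotient.mk_smul, Submodule.Quotient.mk_eq_zero]
      exact ⟨G y, hG y⟩
    exact (Submodule.Quotient.mk_eq_zero N).1 h0

end BaseChange

section Properties

variable {A B' B : Type u} [CommRing A] [CommRing B'] [CommRing B] [Algebra A B'] [Algebra B' B]

theorem flat_omega [Algebra A B] [IsScalarTower A B' B] [Module.Flat B' B] (hq : HasFactors A B' B) :
    Module.Flat A (B ⊗[B'] Disc.Omega A B') := by
  classical
  rw [Module.Flat.iff_lTensor_preserves_injective_linearMap]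
  intro N N' _ _ _ _ j hj
  refine (injective_iff_map_eq_zero _).2 fun z hz => ?_
  letI : Module A (Disc.Omega A B') := Module.compHom _ (algebraMap A B')
  haveI : IsScalarTower A B' (Disc.Omega A B') := ⟨fun a c n => by
    show (a • c) • n = algebraMap A B' a • c • n
    rw [Algebra.smul_def, mul_smul]⟩
  let Ω := Disc.Omega A B'
  let K := TensorProduct.AlgebraTensorModule.lTensor (R := A) B' Ω j
  let α := TensorProduct.AlgebraTensorModule.assoc A B' B B Ω N
  let α' := TensorProduct.AlgebraTensorModule.assoc A B' B B Ω N'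
  have hcomm : ∀ w, α' ((j.lTensor (B ⊗[B'] Ω)) w) = K.lTensor B (α w) := by
    intro w
    induction w using TensorProduct.induction_on with
    | zero => simp
    | tmul w x =>
      induction w using TensorProduct.induction_on with
      | zero => simp
      | tmul c n => rfl
      | add u v hu hv => simp only [TensorProduct.add_tmul, map_add, hu, hv]
    | add u v hu hv => simp only [map_add, hu, hv]
  have h1 : K.lTensor B (α z) = 0 := by rw [← hcomm, hz, map_zero]
  obtain ⟨w, hw⟩ := (Module.Flat.lTensor_exact B K.exact_subtype_ker_map (α z)).1 h1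
  refine α.injective ((eq_zero_of_hasFactors hq (α z) fun t ht => ?_).trans (map_zero α).symm)
  obtain ⟨k, φ, b, hdata⟩ := exists_data_of_mem ht
  let u : Ω →ₗ[A] (Fin k → A) :=
    { toFun := fun n i => n.toLinearMap (b i)
      map_add' := fun n n' => rfl
      map_smul' := fun a n => funext fun i => by
        show n.toLinearMap (algebraMap A B' a * b i) = a • n.toLinearMap (b i)
        rw [← Algebra.smul_def, map_smul] }
  let v : (Fin k → A) →ₗ[A] Ω := Fintype.linearCombination A fun i => (⟨φ i⟩ : Ω)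
  have hvu : ∀ n, v (u n) = t • n := fun n => by
    rw [smul_omega_eq hdata n, Fintype.linearCombination_apply]
    rfl
  have hkill : ∀ x ∈ LinearMap.ker K, t • x = 0 := by
    intro x hx
    have h2 : ∀ y : Ω ⊗[A] N, t • y = v.rTensor N (u.rTensor N y) := by
      intro y
      induction y using TensorProduct.induction_on with
      | zero => simp
      | tmul n m => rw [LinearMap.rTensor_tmul, LinearMap.rTensor_tmul, hvu, TensorProduct.smul_tmul']
      | add a c ha hc => rw [smul_add, ha, hc, map_add, map_add]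
    have h3 : ∀ y : Ω ⊗[A] N, j.lTensor (Fin k → A) (u.rTensor N y) = u.rTensor N' (K y) := by
      intro y
      induction y using TensorProduct.induction_on with
      | zero => simp
      | tmul n m => rfl
      | add a c ha hc => simp only [map_add, ha, hc]
    have h4 := h3 x
    rw [LinearMap.mem_ker.1 hx, map_zero] at h4
    rw [h2, (injective_iff_map_eq_zero _).1 (Module.Flat.lTensor_preserves_injective_linearMap j hj) _ h4, map_zero]
  rw [← hw, mul_smul]
  clear hw
  have h5 : algebraMap B' B t • ((LinearMap.ker K).subtype.lTensor B w) = 0 := by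
    induction w using TensorProduct.induction_on with
    | zero => simp
    | tmul c x => rw [LinearMap.lTensor_tmul, algebraMap_smul, ← TensorProduct.tmul_smul, Submodule.subtype_apply,
        hkill x x.2, TensorProduct.tmul_zero]
    | add a c ha hc => rw [map_add, smul_add, ha, hc, add_zero]
  rw [h5, smul_zero]

theorem eq_zero_of_smul_omega [IsNoetherianRing A] [Module.Finite A B'] [Module.Flat B' B]
    (hq : HasFactors A B' B) (c : B) (hc : ∀ x : B ⊗[B'] Disc.Omega A B', c • x = 0) : c = 0 := by
  classical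
  haveI := finite_omega A B'
  obtain ⟨k, n, hn⟩ := Module.Finite.exists_fin (R := B') (M := Disc.Omega A B')
  let μ : B' →ₗ[B'] (Fin k → Disc.Omega A B') := LinearMap.toSpanSingleton B' _ n
  have h1 : μ.lTensor B (c ⊗ₜ[B'] (1 : B')) = 0 := by
    apply (TensorProduct.piRight B' B B fun _ : Fin k => Disc.Omega A B').injective
    funext i
    rw [map_zero, Pi.zero_apply, LinearMap.lTensor_tmul]
    simp only [TensorProduct.piRight_apply, TensorProduct.piRightHom_tmul, μ, LinearMap.toSpanSingleton_apply,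
      one_smul]
    have h2 := hc ((1 : B) ⊗ₜ[B'] n i)
    rwa [TensorProduct.smul_tmul', smul_eq_mul, mul_one] at h2
  obtain ⟨w, hw⟩ := (Module.Flat.lTensor_exact B μ.exact_subtype_ker_map (c ⊗ₜ[B'] (1 : B'))).1 h1
  refine eq_zero_of_hasFactors hq c fun t ht => ?_
  obtain ⟨m, φ, b, hdata⟩ := exists_data_of_mem ht
  have hkill : ∀ x ∈ LinearMap.ker μ, t * x = 0 := by
    intro x hx
    have hx' : ∀ ψ : Disc.Omega A B', x • ψ = 0 := by
      intro ψ
      have hψ : ψ ∈ Submodule.span B' (Set.range n) := hn ▸ Submodule.mem_top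
      induction hψ using Submodule.span_induction with
      | mem y hy =>
        obtain ⟨i, rfl⟩ := hy
        exact congrFun (LinearMap.mem_ker.1 hx) i
      | zero => exact smul_zero x
      | add p q _ _ hp hq => rw [smul_add, hp, hq, add_zero]
      | smul r p _ hp => rw [smul_comm, hp, smul_zero]
    rw [hdata]
    refine Finset.sum_eq_zero fun i _ => ?_
    have h3 : φ i (x * 1) = 0 := congrArg (fun ψ : Disc.Omega A B' => ψ.toLinearMap 1) (hx' ⟨φ i⟩)
    rw [mul_one] at h3
    rw [h3, zero_smul]
  have h4 : (algebraMap B' B t * c) = 0 := by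
    have h6 : ∀ w, algebraMap B' B t • (LinearMap.ker μ).subtype.lTensor B w = 0 := by
      intro w
      induction w using TensorProduct.induction_on with
      | zero => simp
      | tmul d x => rw [LinearMap.lTensor_tmul, algebraMap_smul, ← TensorProduct.tmul_smul, Submodule.subtype_apply,
          smul_eq_mul, hkill x x.2, TensorProduct.tmul_zero]
      | add a d ha hd => rw [map_add, smul_add, ha, hd, add_zero]
    have h7 := congrArg (TensorProduct.rid B' B) (h6 w)
    rw [hw, TensorProduct.smul_tmul', map_zero, TensorProduct.rid_tmul, one_smul, smul_eq_mul] at h7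
    exact h7
  rw [smul_eq_mul, mul_assoc, h4, mul_zero]

end Properties

end GrothLib.QFDual2
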