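import Mathlib
import Groth.Agent.Lib.QFDual2.Omega
import Groth.Agent.Lib.Different2.Invertible

/-!
# Invertibility of the dualizing module is fibrewise
-/

set_option autoImplicit false

universe u

open TensorProduct

namespace GrothLib.QFDual2

/-- A finite module whose reduction modulo `q` is a line is generated by one element near `q`. -/
theorem exists_local_generator {B M : Type u} [CommRing B] [AddCommGroup M] [Module B M]
    [Module.Finite B M] (q : Ideal B) [hq : q.IsMaximal] (e : (B ⧸ q) ≃ₗ[B ⧸ q] (B ⧸ q) ⊗[B] M) :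
    ∃ (m : M) (t : B), t ∉ q ∧ ∀ x : M, ∃ c : B, c • m = t • x := by
  obtain ⟨m, hm⟩ : ∃ m, (1 : B ⧸ q) ⊗ₜ[B] m = e 1 := by
    generalize e 1 = w
    induction w using TensorProduct.induction_on with
    | zero => exact ⟨0, TensorProduct.tmul_zero _ _⟩
    | tmul x n =>
      obtain ⟨b, rfl⟩ := Ideal.Quotient.mk_surjective x
      exact ⟨b • n, by rw [TensorProduct.tmul_smul, TensorProduct.smul_tmul', Algebra.smul_def, mul_one,
        Ideal.Quotient.algebraMap_eq]⟩
    | add x y hx hy =>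
      obtain ⟨u, hu⟩ := hx
      obtain ⟨v, hv⟩ := hy
      exact ⟨u + v, by rw [TensorProduct.tmul_add, hu, hv]⟩
  let C := M ⧸ Submodule.span B {m}
  have hsmall : (⊤ : Submodule B C) ≤ q • ⊤ := by
    intro x _
    obtain ⟨n, rfl⟩ := Submodule.Quotient.mk_surjective _ x
    obtain ⟨b, hb⟩ := Ideal.Quotient.mk_surjective (e.symm ((1 : B ⧸ q) ⊗ₜ n))
    have h2 : (1 : B ⧸ q) ⊗ₜ[B] n = (1 : B ⧸ q) ⊗ₜ[B] (b • m) := by
      rw [TensorProduct.tmul_smul, hm, ← algebraMap_smul (B ⧸ q) b, Ideal.Quotient.algebraMap_eq, hb, ← map_smul,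
        smul_eq_mul, mul_one, LinearEquiv.apply_symm_apply]
    have h3 := congrArg ((TensorProduct.quotTensorEquivQuotSMul C q).toLinearMap ∘ₗ
      (Submodule.mkQ (Submodule.span B {m})).lTensor (B ⧸ q)) h2
    simp only [LinearMap.comp_apply, LinearMap.lTensor_tmul, LinearEquiv.coe_coe, Submodule.mkQ_apply] at h3
    rw [show (1 : B ⧸ q) = Ideal.Quotient.mk q 1 from rfl, TensorProduct.quotTensorEquivQuotSMul_mk_tmul,
      TensorProduct.quotTensorEquivQuotSMul_mk_tmul, one_smul, one_smul, Submodule.Quotient.mk_smul,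
      show (Submodule.Quotient.mk m : C) = 0 from
        (Submodule.Quotient.mk_eq_zero _).2 (Submodule.mem_span_singleton_self m), smul_zero] at h3
    exact (Submodule.Quotient.mk_eq_zero _).1 (h3.trans (Submodule.Quotient.mk_zero _))
  obtain ⟨r, hr, hr0⟩ := Submodule.exists_sub_one_mem_and_smul_eq_zero_of_fg_of_le_smul q ⊤
    (Module.Finite.fg_top (R := B) (M := C)) hsmall
  refine ⟨m, r, fun hrq => hq.ne_top ((Ideal.eq_top_iff_one q).2 (by simpa using q.sub_mem hrq hr)), fun x => ?_⟩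
  have h4 := hr0 (Submodule.Quotient.mk x) trivial
  rw [← Submodule.Quotient.mk_smul, Submodule.Quotient.mk_eq_zero, Submodule.mem_span_singleton] at h4
  exact h4

section

variable {A B' B A₁ B'₁ B₁ : Type u} [CommRing A] [CommRing B'] [CommRing B] [CommRing A₁] [CommRing B'₁] [CommRing B₁]
  [Algebra A B'] [Algebra A A₁] [Algebra B' B'₁] [Algebra A₁ B'₁] [Algebra A B'₁]
  [IsScalarTower A A₁ B'₁] [IsScalarTower A B' B'₁] (h : Algebra.IsPushout A A₁ B' B'₁)
  [Algebra B' B] [Algebra B'₁ B₁] [Algebra B' B₁] [IsScalarTower B' B'₁ B₁]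
  [Algebra B B₁] [IsScalarTower B' B B₁]

include h in
theorem invertible_baseChange (hq : HasFactors A B' B₁) [Module.Invertible B (QFDual.omega A B' B)] :
    Module.Invertible B₁ (QFDual.omega A₁ B'₁ B₁) :=
  Module.Invertible.congr ((TensorProduct.AlgebraTensorModule.cancelBaseChange B' B B₁ B₁ (Disc.Omega A B')).trans
    (LinearEquiv.ofBijective _ (omegaBC_bijective (B₁ := B₁) h hq)))

include h in
theorem exists_local_generator_of_fibre [IsNoetherianRing A] [Module.Finite A B'] (hq : HasFactors A B' B₁)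
    [Module.Invertible B₁ (QFDual.omega A₁ B'₁ B₁)] (q : Ideal B) [q.IsMaximal]
    [Algebra B₁ (B ⧸ q)] [IsScalarTower B' B₁ (B ⧸ q)] :
    ∃ (m : QFDual.omega A B' B) (t : B), t ∉ q ∧ ∀ x, ∃ c : B, c • m = t • x := by
  haveI := finite_omega A B'
  letI : Field (B ⧸ q) := Ideal.Quotient.field q
  haveI : Module.Invertible B₁ (QFDual.omega A B' B₁) :=
    Module.Invertible.congr (LinearEquiv.ofBijective _ (omegaBC_bijective (B₁ := B₁) h hq)).symm
  let e₁ := TensorProduct.AlgebraTensorModule.cancelBaseChange B' B₁ (B ⧸ q) (B ⧸ q) (Disc.Omega A B')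
  let e₂ := TensorProduct.AlgebraTensorModule.cancelBaseChange B' B (B ⧸ q) (B ⧸ q) (Disc.Omega A B')
  haveI hU : Module.Invertible (B ⧸ q) ((B ⧸ q) ⊗[B] QFDual.omega A B' B) :=
    Module.Invertible.congr (e₁.trans e₂.symm)
  obtain ⟨e⟩ := Module.Invertible.free_iff_linearEquiv.1
    (inferInstance : Module.Free (B ⧸ q) ((B ⧸ q) ⊗[B] QFDual.omega A B' B))
  exact exists_local_generator q e.symm

end

theorem isPushout_fibre (A R : Type u) [CommRing A] [CommRing R] [Algebra A R] (p : Ideal A) [p.IsPrime] :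
    letI : Algebra R (p.Fiber R) := Algebra.TensorProduct.rightAlgebra
    Algebra.IsPushout A p.ResidueField R (p.Fiber R) :=
  letI : Algebra R (p.Fiber R) := Algebra.TensorProduct.rightAlgebra
  TensorProduct.isPushout

end GrothLib.QFDual2
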