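import Mathlib
import Groth.Agent.Lib.QFDual2.Omega
import Groth.Agent.Lib.Different2.Invertible
import Groth.Agent.Lib.Different2.Frobenius
import Groth.Agent.Lib.GorFlat.Main

/-!
# The dualizing module of a Gorenstein quasi-finite algebra over a field
-/

set_option autoImplicit false

universe u

open TensorProduct IsLocalRing

namespace GrothLib.QFDual2

theorem invertible_omega_field {k F B₁ : Type u} [Field k] [CommRing F] [CommRing B₁] [Algebra k F]
    [Module.Finite k F] [Algebra F B₁]
    (hopen : AlgebraicGeometry.IsOpenImmersion (AlgebraicGeometry.Spec.map (CommRingCat.ofHom (algebraMap F B₁))))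
    (hG : LocCoh.IsGorensteinRing B₁) : Module.Invertible B₁ (QFDual.omega k F B₁) := by
  classical
  haveI : IsArtinianRing F := IsArtinianRing.of_finite k F
  haveI := flat_of_openImmersion hopen
  have hfac : HasFactors k F B₁ := fun q hq => ⟨1, (dualTensorHom_bijective (R := k) (M := F) (N := F)).2 _,
    fun h => hq.ne_top ((Ideal.eq_top_iff_one q).2 (by simpa using h))⟩
  refine Different2.invertible_of_locally_cyclic (eq_zero_of_smul_omega hfac) fun q hq => ?_
  haveI := hq
  let Q := q.comap (algebraMap F B₁)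
  haveI : Q.IsMaximal := IsArtinianRing.isMaximal_of_isPrime Q
  let L := Localization.AtPrime Q
  obtain ⟨e⟩ := exists_localization_equiv hopen q
  haveI : LocCoh.IsGorensteinLocalRing L :=
    (GorFlat.gorenstein_congr e.toRingEquiv).2 (hG.isGorensteinLocalRing_localization q)
  have hπ : Function.Surjective (algebraMap F L) := IsArtinianRing.localization_surjective Q.primeCompl L
  let π : F →ₗ[k] L := (IsScalarTower.toAlgHom k F L).toLinearMap
  have hπ' : Function.Surjective π := hπ
  haveI : Module.Finite k L := Module.Finite.of_surjective π hπ'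
  haveI : IsArtinianRing L := IsArtinianRing.of_finite k L
  obtain ⟨eL⟩ := Different2.nonempty_omega_equiv_of_socAt (k := k) (F := L) fun m hm => by
    rw [eq_maximalIdeal hm]
    obtain ⟨s, hs, hkill, hgen⟩ := GorFlat.socCyclic_of_gorenstein (R := L)
    exact ⟨s, hkill, hs, hgen⟩
  obtain ⟨t, htQ, htker⟩ : ∃ t : F, t ∉ Q ∧ ∀ y, algebraMap F L y = 0 → t * y = 0 := by
    obtain ⟨S, hS⟩ := (IsNoetherian.noetherian (RingHom.ker (algebraMap F L)) : _)
    have h1 : ∀ a : S, ∃ t : Q.primeCompl, t.1 * (a : F) = 0 := fun a =>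
      (IsLocalization.map_eq_zero_iff Q.primeCompl L _).1 (RingHom.mem_ker.1 (hS ▸ Ideal.subset_span a.2))
    choose t ht using h1
    refine ⟨(∏ a, t a).1, (∏ a, t a).2, fun y hy => ?_⟩
    have hmem : y ∈ Submodule.span F (S : Set F) := by
      rw [hS]
      exact RingHom.mem_ker.2 hy
    clear hy
    induction hmem using Submodule.span_induction with
    | mem z hz =>
      obtain ⟨u, hu⟩ := Finset.dvd_prod_of_mem t (Finset.mem_univ (⟨z, hz⟩ : S))
      rw [show ∏ a, t a = t ⟨z, hz⟩ * u from hu, Submonoid.coe_mul, mul_right_comm, ht ⟨z, hz⟩, zero_mul]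
    | zero => rw [mul_zero]
    | add a b _ _ ha hb => rw [mul_add, ha, hb, add_zero]
    | smul r a _ ha => rw [smul_eq_mul, mul_left_comm, ha, mul_zero]
  let εF : Disc.Omega k F := ⟨(eL 1).toLinearMap.comp π⟩
  refine ⟨(1 : B₁) ⊗ₜ[F] εF, algebraMap F B₁ t, htQ, fun x => ?_⟩
  induction x using TensorProduct.induction_on with
  | zero => exact ⟨0, by rw [zero_smul, smul_zero]⟩
  | tmul b ψ =>
    have hle : LinearMap.ker π ≤ LinearMap.ker (t • ψ).toLinearMap := fun y hy => by
      rw [LinearMap.mem_ker, Disc.Omega.smul_toLinearMap_apply, htker y hy, map_zero]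
    let ψL : Disc.Omega k L := ⟨((LinearMap.ker π).liftQ (t • ψ).toLinearMap hle).comp
      (π.quotKerEquivOfSurjective hπ').symm.toLinearMap⟩
    obtain ⟨c, hc⟩ := hπ (eL.symm ψL)
    have hcε : c • εF = t • ψ := by
      apply Disc.Omega.toLinearMap_injective
      refine LinearMap.ext fun y => ?_
      have h1 : (eL (eL.symm ψL)).toLinearMap (π y) = (t • ψ).toLinearMap y := by
        rw [LinearEquiv.apply_symm_apply]
        show (LinearMap.ker π).liftQ _ hle ((π.quotKerEquivOfSurjective hπ').symm (π y)) = _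
        rw [LinearMap.quotKerEquivOfSurjective_symm_apply]
        rfl
      rw [← h1, ← hc]
      show (eL 1).toLinearMap (algebraMap F L (c * y)) = (eL (algebraMap F L c)).toLinearMap (algebraMap F L y)
      have h2 : eL (algebraMap F L c) = algebraMap F L c • eL 1 := by
        rw [← map_smul, smul_eq_mul, mul_one]
      rw [h2, Disc.Omega.smul_toLinearMap_apply, ← map_mul]
    refine ⟨b * algebraMap F B₁ c, ?_⟩
    rw [mul_smul, algebraMap_smul, ← TensorProduct.tmul_smul, hcε, TensorProduct.smul_tmul', smul_eq_mul, mul_one,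
      TensorProduct.tmul_smul, algebraMap_smul]
  | add x y hx hy =>
    obtain ⟨c, hc⟩ := hx
    obtain ⟨d, hd⟩ := hy
    exact ⟨c + d, by rw [add_smul, hc, hd, smul_add]⟩

end GrothLib.QFDual2
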