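import Mathlib

/-!
# Flatness over the total ring of fractions
-/

set_option autoImplicit false

universe u

open TensorProduct

namespace GrothLib.QFDual2

variable {A B : Type u} [CommRing A] [CommRing B] [Algebra A B]

/-- The image in `B` of the non-zero-divisors of `A`. -/
abbrev regSubmonoid (A B : Type u) [CommRing A] [CommRing B] [Algebra A B] : Submonoid B :=
  Algebra.algebraMapSubmonoid B (nonZeroDivisors A)

theorem equiv_regLocalization (K SB : Type u) [CommRing K] [CommRing SB] [Algebra A K] [Algebra B SB]
    [Algebra K SB] [Algebra A SB] [IsScalarTower A K SB] [IsScalarTower A B SB]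
    [IsLocalization (nonZeroDivisors A) K] [IsLocalization (regSubmonoid A B) SB] :
    Nonempty (K ⊗[A] B ≃ₗ[K] SB) :=
  ⟨(Algebra.isPushout_of_isLocalization (nonZeroDivisors A) K B SB).symm.out.equiv⟩

set_option synthInstance.maxHeartbeats 400000 in
theorem exists_equiv_regLocalization :
    Nonempty (FractionRing A ⊗[A] B ≃ₗ[FractionRing A] Localization (regSubmonoid A B)) := by
  haveI : IsScalarTower A (FractionRing A) (Localization (regSubmonoid A B)) :=
    isScalarTower_localizationAlgebra (nonZeroDivisors A) B
  exact equiv_regLocalization _ _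

theorem flat_atPrime_of_fraction (h2 : Module.Flat (FractionRing A) (FractionRing A ⊗[A] B))
    (q : Ideal B) [q.IsPrime] (hq : ∀ s ∈ nonZeroDivisors A, algebraMap A B s ∉ q) :
    Module.Flat A (Localization.AtPrime q) := by
  obtain ⟨e⟩ := exists_equiv_regLocalization (A := A) (B := B)
  let SB := Localization (regSubmonoid A B)
  haveI : Module.Flat A (FractionRing A) := IsLocalization.flat _ (nonZeroDivisors A)
  haveI : Module.Flat A (FractionRing A ⊗[A] B) := Module.Flat.trans A (FractionRing A) _
  haveI : Module.Flat A SB := Module.Flat.of_linearEquiv (e.restrictScalars A).symm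
  have hle : regSubmonoid A B ≤ q.primeCompl := by
    rintro _ ⟨s, hs, rfl⟩
    exact hq s hs
  have hu : ∀ y : regSubmonoid A B, IsUnit (algebraMap B (Localization.AtPrime q) y) := fun y =>
    IsLocalization.map_units _ (⟨y.1, hle y.2⟩ : q.primeCompl)
  letI : Algebra SB (Localization.AtPrime q) := (IsLocalization.lift hu).toAlgebra
  haveI : IsScalarTower B SB (Localization.AtPrime q) :=
    IsScalarTower.of_algebraMap_eq (R := B) (S := SB) (A := Localization.AtPrime q) fun x =>
      (IsLocalization.lift_eq hu x).symm
  haveI : IsScalarTower A SB (Localization.AtPrime q) :=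
    IsScalarTower.of_algebraMap_eq (R := A) (S := SB) (A := Localization.AtPrime q) fun x => by
      rw [IsScalarTower.algebraMap_apply A B SB, ← IsScalarTower.algebraMap_apply B SB,
        ← IsScalarTower.algebraMap_apply A B]
  haveI := IsLocalization.isLocalization_of_submonoid_le SB (Localization.AtPrime q) _ q.primeCompl hle
  haveI : Module.Flat SB (Localization.AtPrime q) :=
    IsLocalization.flat _ (q.primeCompl.map (algebraMap B SB))
  exact Module.Flat.trans A SB _

theorem flat_fraction_of_atPrime
    (h : ∀ (q : Ideal B) [q.IsPrime], (∀ s ∈ nonZeroDivisors A, algebraMap A B s ∉ q) →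
      (∀ q' : Ideal B, q'.IsPrime → q ≤ q' → (∀ s ∈ nonZeroDivisors A, algebraMap A B s ∉ q') → q' = q) →
      ∀ (L : Type u) [CommRing L] [Algebra B L] [IsLocalization.AtPrime L q] [Algebra A L] [IsScalarTower A B L],
        Module.Flat A L) :
    Module.Flat (FractionRing A) (FractionRing A ⊗[A] B) := by
  obtain ⟨e⟩ := exists_equiv_regLocalization (A := A) (B := B)
  let SB := Localization (regSubmonoid A B)
  haveI : Module.Flat A SB := by
    refine Module.flat_of_isLocalized_maximal (R := A) (S := SB) (M := SB) (fun m _ => Localization.AtPrime m)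
      (fun m _ => Algebra.linearMap SB (Localization.AtPrime m)) fun m hm => ?_
    let q := m.comap (algebraMap B SB)
    haveI : IsLocalization.AtPrime (Localization.AtPrime m) q :=
      IsLocalization.isLocalization_isLocalization_atPrime_isLocalization (regSubmonoid A B) _ m
    refine h q (fun s hs hsq => hm.ne_top (Ideal.eq_top_of_isUnit_mem _ hsq
      (IsLocalization.map_units SB (⟨_, s, hs, rfl⟩ : regSubmonoid A B)))) (fun q' hq' hle hreg => ?_) _
    have hd : Disjoint (regSubmonoid A B : Set B) q' := by
      rw [Set.disjoint_left]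
      rintro _ ⟨s, hs, rfl⟩ hmem
      exact hreg s hs hmem
    haveI := IsLocalization.isPrime_of_isPrime_disjoint (regSubmonoid A B) SB q' hq' hd
    have hle' : m ≤ q'.map (algebraMap B SB) := by
      rw [← IsLocalization.map_under (regSubmonoid A B) SB m]
      exact Ideal.map_mono hle
    have heq := hm.eq_of_le (Ideal.IsPrime.ne_top ‹_›) hle'
    show q' = m.comap (algebraMap B SB)
    rw [heq]
    exact (IsLocalization.under_map_of_isPrime_disjoint (regSubmonoid A B) SB hq' hd).symm
  haveI : Module.Flat (FractionRing A) SB :=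
    (Module.flat_iff_of_isLocalization (R := A) (FractionRing A) (nonZeroDivisors A) (M := SB)).mpr ‹_›
  exact Module.Flat.of_linearEquiv e

theorem exists_associatedPrime_le {A : Type u} [CommRing A] [IsNoetherianRing A] (I : Ideal A)
    (hI : ∀ s ∈ nonZeroDivisors A, s ∉ I) : ∃ p ∈ associatedPrimes A A, I ≤ p := by
  have h1 : (I : Set A) ⊆ ⋃ p ∈ associatedPrimes A A, (p : Set A) := by
    rw [biUnion_associatedPrimes_eq_compl_nonZeroDivisors]
    exact fun x hx hn => hI x hn hx
  obtain ⟨p, hp, hle⟩ := (Ideal.subset_union_prime_finite (associatedPrimes.finite A A) ⊤ ⊤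
    (fun i hi _ _ => IsAssociatedPrime.isPrime hi)).1 h1
  exact ⟨p, hp, hle⟩

theorem not_mem_associatedPrime {A : Type u} [CommRing A] [IsNoetherianRing A] {p : Ideal A}
    (hp : p ∈ associatedPrimes A A) {s : A} (hs : s ∈ nonZeroDivisors A) : s ∉ p := fun h => by
  have h1 : s ∈ ⋃ p ∈ associatedPrimes A A, (p : Set A) := Set.mem_biUnion hp h
  rw [biUnion_associatedPrimes_eq_compl_nonZeroDivisors] at h1
  exact h1 hs

end GrothLib.QFDual2
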